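import Mathlib
import Groth.Agent.Frob15.SmoothRelFrob

/-!
# Degree one Cartier theorem in an etale chart over a perfect ring
-/

set_option autoImplicit false
set_option linter.unusedSectionVars false
set_option linter.style.haveILetI false
set_option maxHeartbeats 1000000

universe u

noncomputable section

open FrobAlg

namespace Groth.Agent.CartierOne9

variable (p : ℕ) [hp : Fact p.Prime] [NeZero p] {A : Type u} [CommRing A] [CharP A p] [PerfectRing A p] {r : ℕ}
  (C : Type u) [CommRing C] [Algebra A C] [CharP C p] [Algebra (MvPolynomial (Fin r) A) C]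
  [IsScalarTower A (MvPolynomial (Fin r) A) C] [Algebra.Etale (MvPolynomial (Fin r) A) C]

local notation "P" => MvPolynomial (Fin r) A

/-- The coordinates. -/
def tc (i : Fin r) : C := algebraMap P C (MvPolynomial.X i)

/-- The basis `dt_i`. -/
def tBasis : Module.Basis (Fin r) C (KaehlerDifferential A C) :=
  ((KaehlerDifferential.mvPolynomialBasis A (Fin r)).baseChange C).map
    (KaehlerDifferential.tensorKaehlerEquivOfFormallyEtale A P C)

theorem tBasis_apply (i : Fin r) : tBasis (A := A) C i = KaehlerDifferential.D A C (tc (A := A) C i) := by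
  simp [tBasis, tc, KaehlerDifferential.mapBaseChange_tmul]

/-- The partial derivatives. -/
def pd (i : Fin r) : Derivation A C C := ((tBasis (A := A) C).coord i).compDer (KaehlerDifferential.D A C)

theorem pd_tc (i j : Fin r) : pd (A := A) C i (tc (A := A) C j) = if j = i then 1 else 0 := by
  show (tBasis (A := A) C).coord i (KaehlerDifferential.D A C (tc (A := A) C j)) = _
  rw [← tBasis_apply, Module.Basis.coord_apply, Module.Basis.repr_self, Finsupp.single_apply]

theorem pd_algebraMap (i : Fin r) (q : MvPolynomial (Fin r) A) :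
    pd (A := A) C i (algebraMap P C q) = algebraMap P C (MvPolynomial.pderiv i q) := by
  induction q using MvPolynomial.induction_on with
  | C a =>
    rw [MvPolynomial.pderiv_C, map_zero, ← MvPolynomial.algebraMap_eq, ← IsScalarTower.algebraMap_apply,
      Derivation.map_algebraMap]
  | add q q' hq hq' => rw [map_add, map_add, hq, hq', map_add, map_add]
  | mul_X q j hq =>
    rw [map_mul, Derivation.leibniz, hq, show algebraMap P C (MvPolynomial.X j) = tc (A := A) C j from rfl, pd_tc,
      MvPolynomial.pderiv_mul, map_add, map_mul, map_mul]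
    rcases eq_or_ne j i with rfl | h
    · rw [if_pos rfl, MvPolynomial.pderiv_X_self, map_one]
      simp only [smul_eq_mul, tc]
      ring
    · rw [if_neg h, MvPolynomial.pderiv_X_of_ne h, map_zero]
      simp only [smul_eq_mul, tc]
      ring

theorem pd_comm (i j : Fin r) (x : C) :
    pd (A := A) C i (pd (A := A) C j x) = pd (A := A) C j (pd (A := A) C i x) := by
  have h : ⁅pd (A := A) C i, pd (A := A) C j⁆.liftKaehlerDifferential = 0 :=
    (tBasis (A := A) C).ext fun k => by
      rw [tBasis_apply, Derivation.liftKaehlerDifferential_comp_D, Derivation.commutator_apply, pd_tc, pd_tc,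
        LinearMap.zero_apply]
      split_ifs <;> simp
  have h2 := DFunLike.congr_fun h (KaehlerDifferential.D A C x)
  rw [Derivation.liftKaehlerDifferential_comp_D, Derivation.commutator_apply, LinearMap.zero_apply] at h2
  exact sub_eq_zero.1 h2

/-- The monomial of reduced exponent `e`. -/
def tm (e : Fin r → Fin p) : C := Groth.Agent.Frob15.monB p r (A := A) (B := C) e

/-- The expansion. -/
def ser (c : (Fin r → Fin p) → C) : C := ∑ e, c e ^ p * tm p (A := A) C e

theorem ser_bijective : Function.Bijective (ser p (A := A) (r := r) C) := by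
  have hb := Groth.Agent.Frob15.bijective_expansion p r (A := A) (B := C)
    ((Groth.Agent.Frob15.etale_iff_bijective_relFrob p (MvPolynomial (Fin r) A) C).1 inferInstance)
  let j : C → BaseChange p A C := fun b => TensorProduct.tmul A b (1 : Twist p A)
  have hj : Function.Bijective j := by
    obtain ⟨φ, hφ⟩ := Groth.Agent.Frob15.exists_ringHom_baseChange p A C (RingHom.id C)
      ((algebraMap A C).comp ((frobeniusEquiv A p).symm : A →+* A)) fun a => by
        show algebraMap A C a = algebraMap A C ((frobeniusEquiv A p).symm a) ^ p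
        rw [← map_pow, frobeniusEquiv_symm_pow_p]
    refine ⟨fun b b' h => ?_, fun x => ?_⟩
    · have := congrArg φ h
      rw [hφ, hφ] at this
      simpa using this
    · induction x using TensorProduct.induction_on with
      | zero => exact ⟨0, TensorProduct.zero_tmul _ _⟩
      | add x y hx hy =>
        obtain ⟨b, rfl⟩ := hx
        obtain ⟨b', rfl⟩ := hy
        exact ⟨b + b', TensorProduct.add_tmul _ _ _⟩
      | tmul b a =>
        obtain ⟨a, rfl⟩ := (toTwist p A).surjective a
        refine ⟨(frobeniusEquiv A p).symm a • b, ?_⟩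
        show TensorProduct.tmul A _ (1 : Twist p A) = _
        rw [TensorProduct.smul_tmul, ← Algebra.algebraMap_eq_smul_one, FrobAlg.algebraMap_twist,
          frobeniusEquiv_symm_pow_p]
  have he : ser p (A := A) (r := r) C = (fun c : (Fin r → Fin p) → BaseChange p A C =>
      ∑ e, relFrob p A C (c e) * Groth.Agent.Frob15.monB p r (A := A) (B := C) e) ∘ (fun c e => j (c e)) := by
    funext c
    refine Finset.sum_congr rfl fun e _ => ?_
    show _ = relFrob p A C (TensorProduct.tmul A (c e) (1 : Twist p A)) * _
    rw [Groth.Agent.Frob15.relFrob_tmul, map_one, map_one, mul_one]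
    rfl
  rw [he]
  exact hb.comp ⟨fun c c' h => funext fun e => hj.1 (congrFun h e),
    fun c => ⟨fun e => (hj.2 (c e)).choose, funext fun e => (hj.2 (c e)).choose_spec⟩⟩

omit [PerfectRing A p] in
theorem pd_pow_p (i : Fin r) (x : C) : pd (A := A) C i (x ^ p) = 0 := by
  rw [Derivation.leibniz_pow, ← Nat.cast_smul_eq_nsmul C, CharP.cast_eq_zero C p, zero_smul]

omit [PerfectRing A p] in
theorem pd_tm (i : Fin r) (e : Fin r → Fin p) :
    pd (A := A) C i (tm p (A := A) C e) = ((e i : ℕ) : C) * tm p (A := A) C (e - Pi.single i 1) := by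
  rw [tm, Groth.Agent.Frob15.monB, pd_algebraMap, MvPolynomial.pderiv_monomial]
  by_cases h : (e i : ℕ) = 0
  · simp [h]
  · rw [one_mul]
    have hm : (Finsupp.equivFunOnFinite.symm fun k : Fin r => (e k : ℕ)) - Finsupp.single i 1 =
        Finsupp.equivFunOnFinite.symm fun k : Fin r => (((e - Pi.single i (1 : Fin p) : Fin r → Fin p) k : ℕ)) := by
      ext k
      rcases eq_or_ne k i with rfl | hk
      · have h1 : ((1 : Fin p) : ℕ) = 1 := by
          rw [Fin.val_one', Nat.mod_eq_of_lt hp.out.one_lt]
        simp only [Finsupp.tsub_apply, Finsupp.equivFunOnFinite_symm_apply_apply, Finsupp.single_eq_same,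
          Pi.sub_apply, Pi.single_eq_same]
        rw [Fin.coe_sub_iff_le.2 (by rw [Fin.le_def, h1]; omega), h1]
      · simp [Finsupp.single_eq_of_ne hk, Pi.single_eq_of_ne hk]
    rw [Finsupp.equivFunOnFinite_symm_apply_apply, hm, tm, Groth.Agent.Frob15.monB,
      ← map_natCast (algebraMap P C) (e i : ℕ), ← map_mul, ← MvPolynomial.C_eq_coe_nat,
      MvPolynomial.C_mul_monomial, mul_one]

omit [PerfectRing A p] in
theorem natCast_val_add_one (m : Fin p) :
      (((m + 1 : Fin p) : ℕ) : C) = ((m : ℕ) : C) + 1 := by
  rw [Fin.val_add, Fin.val_one', Nat.mod_eq_of_lt hp.out.one_lt, ← Nat.cast_add_one]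
  exact (CharP.natCast_eq_natCast C p).2 (Nat.mod_modEq _ _)

omit [PerfectRing A p] in
theorem pd_ser (i : Fin r) (c : (Fin r → Fin p) → C) :
      pd (A := A) C i (ser p (A := A) (r := r) C c) =
      ser p (A := A) (r := r) C (fun m => c (m + Pi.single i 1) * (((m + Pi.single i 1 : Fin r → Fin p) i : ℕ) : C)) := by
  simp only [ser, map_sum, Derivation.leibniz, pd_pow_p, smul_zero, mul_zero, add_zero, pd_tm, smul_eq_mul]
  refine (Fintype.sum_equiv (Equiv.addRight (Pi.single i (1 : Fin p))) _ _ fun m => ?_).symm
  show _ = c (m + Pi.single i 1) ^ p * ((((m + Pi.single i 1 : Fin r → Fin p) i : ℕ) : C) *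
    tm p (A := A) C ((m + Pi.single i 1) - Pi.single i 1))
  rw [add_sub_cancel_right, mul_pow, ← frobenius_def (R := C) p ((_ : ℕ) : C), map_natCast, mul_assoc]

/-- The exponent `(p - 1) δ_i`. -/
def top' (i : Fin r) : Fin r → Fin p :=
  -Pi.single i 1


omit [PerfectRing A p] in
theorem tm_top' (i : Fin r) : tm p (A := A) C (top' p i) = tc (A := A) C i ^ (p - 1) := by
  rw [tm, Groth.Agent.Frob15.monB, tc, ← map_pow, MvPolynomial.X_pow_eq_monomial]
  refine congrArg (fun s : Fin r →₀ ℕ => algebraMap (MvPolynomial (Fin r) A) C (MvPolynomial.monomial s (1 : A)))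
    (Finsupp.ext fun k => ?_)
  rcases eq_or_ne k i with rfl | hk
  · simp [top', Fin.val_neg', Fin.val_one', Nat.mod_eq_of_lt hp.out.one_lt,
      Nat.mod_eq_of_lt (show p - 1 < p by have := hp.out.pos; omega)]
  · simp [top', Pi.single_eq_of_ne hk, Finsupp.single_eq_of_ne hk]

theorem ser_single (e : Fin r → Fin p) (x : C) :
    ser p (A := A) (r := r) C (Pi.single e x) = x ^ p * tm p (A := A) C e := by
  classical
  rw [ser, Finset.sum_eq_single e (fun e' _ he' => by rw [Pi.single_eq_of_ne he', zero_pow hp.out.ne_zero, zero_mul])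
    (fun h => absurd (Finset.mem_univ e) h), Pi.single_eq_same]

/-- Injectivity of the inverse Cartier map in a chart. -/
theorem chart_inj (g : Fin r → C) (h : C)
    (H : ∀ i, pd (A := A) C i h = g i ^ p * tc (A := A) C i ^ (p - 1)) (i : Fin r) : g i = 0 := by
  classical
  obtain ⟨c, rfl⟩ := (ser_bijective p (A := A) (r := r) C).2 h
  have h1 := H i
  rw [pd_ser, ← tm_top', ← ser_single] at h1
  have h2 := congrFun ((ser_bijective p (A := A) (r := r) C).1 h1) (top' p i)
  rw [Pi.single_eq_same] at h2
  rw [← h2, top', neg_add_cancel]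
  simp

/-- Surjectivity of the inverse Cartier map in a chart. -/
theorem chart_surj (f : Fin r → C) (H : ∀ i j, pd (A := A) C i (f j) = pd (A := A) C j (f i)) :
    ∃ (h : C) (g : Fin r → C), ∀ i, f i = pd (A := A) C i h + g i ^ p * tc (A := A) C i ^ (p - 1) := by
  classical
  choose a ha using fun i => (ser_bijective p (A := A) (r := r) C).2 (f i)
  let κ : (Fin r → Fin p) → Fin r → C := fun e i => ((e i : ℕ) : C)
  let δ : Fin r → Fin r → Fin p := fun i => Pi.single i 1
  have hr : ∀ i j m, a j (m + δ i) * κ (m + δ i) i = a i (m + δ j) * κ (m + δ j) j := by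
    intro i j m
    have h1 := H i j
    rw [← ha, ← ha, pd_ser, pd_ser] at h1
    exact congrFun ((ser_bijective p (A := A) (r := r) C).1 h1) m
  let ι : (Fin r → Fin p) → Fin r → C := fun e i => ZMod.castHom (dvd_refl p) C ((e i : ℕ) : ZMod p)⁻¹
  have hι : ∀ (e : Fin r → Fin p) (i : Fin r), e i ≠ 0 → κ e i * ι e i = 1 := by
    intro e i hei
    have h0 : ((e i : ℕ) : ZMod p) ≠ 0 := fun h => hei (Fin.ext (by
      have := Nat.eq_zero_of_dvd_of_lt ((ZMod.natCast_eq_zero_iff _ _).1 h) (e i).isLt
      simpa using this))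
    show ((e i : ℕ) : C) * _ = 1
    rw [← map_natCast (ZMod.castHom (dvd_refl p) C), ← map_mul, mul_inv_cancel₀ h0, map_one]
  let b : (Fin r → Fin p) → C := fun e =>
    if h : ∃ i, e i ≠ 0 then a h.choose (e - δ h.choose) * ι e h.choose else 0
  refine ⟨ser p (A := A) (r := r) C b, fun i => a i (top' p i), fun i => ?_⟩
  rw [← ha i, pd_ser, ← tm_top', ← ser_single]
  simp only [ser]
  rw [← Finset.sum_add_distrib]
  refine Finset.sum_congr rfl fun m _ => ?_
  rw [← add_mul, ← add_pow_char]
  congr 2
  set e : Fin r → Fin p := m + δ i with he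
  show a i m = b e * κ e i + _
  by_cases hei : e i = 0
  · have hk : κ e i = 0 := by simp [κ, hei]
    rw [hk, mul_zero, zero_add]
    by_cases hm : m = top' p i
    · subst hm; rw [Pi.single_eq_same]
    rw [Pi.single_eq_of_ne hm]
    obtain ⟨j, hj⟩ : ∃ j, j ≠ i ∧ m j ≠ 0 := by
      by_contra! hc
      refine hm (funext fun k => ?_)
      rcases eq_or_ne k i with rfl | hk
      · rw [he] at hei
        simpa [top', δ, eq_neg_iff_add_eq_zero] using hei
      · simpa [top', Pi.single_eq_of_ne hk] using hc k hk
    have h1 := hr i j (m - δ j)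
    rw [sub_add_cancel] at h1
    have h2 : κ (m - δ j + δ i) i = 0 := by
      simp only [κ]
      rw [show (m - δ j + δ i) i = e i from by simp [he, δ, Pi.single_eq_of_ne (Ne.symm hj.1)], hei]
      simp
    rw [h2, mul_zero] at h1
    calc a i m = a i m * (κ m j * ι m j) := by rw [hι m j hj.2, mul_one]
      _ = 0 := by rw [← mul_assoc, ← h1, zero_mul]
  · have hm : m ≠ top' p i := fun h => hei (by simp [he, h, top', δ])
    rw [Pi.single_eq_of_ne hm, add_zero]
    have hex : ∃ k, e k ≠ 0 := ⟨i, hei⟩
    show a i m = b e * _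
    simp only [b, dif_pos hex]
    set j := hex.choose with hjdef
    have hj : e j ≠ 0 := hex.choose_spec
    rcases eq_or_ne j i with hji | hji
    · rw [hji, mul_assoc, mul_comm (ι e i), hι e i hei, mul_one, he, add_sub_cancel_right]
    · have h1 := hr i j (e - δ i - δ j)
      rw [show e - δ i - δ j + δ i = e - δ j by abel, show e - δ i - δ j + δ j = e - δ i by abel] at h1
      have k1 : κ (e - δ j) i = κ e i := by simp [κ, δ, Pi.single_eq_of_ne (Ne.symm hji)]
      have k2 : κ (e - δ i) j = κ e j := by simp [κ, δ, Pi.single_eq_of_ne hji]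
      rw [k1, k2, show e - δ i = m by rw [he, add_sub_cancel_right]] at h1
      calc a i m = a i m * (κ e j * ι e j) := by rw [hι e j hj, mul_one]
        _ = a j (e - δ j) * ι e j * κ e i := by rw [← mul_assoc, ← h1]; ring

end Groth.Agent.CartierOne9
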