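import Mathlib

/-!
# The inverse Cartier map in degree one
-/

set_option autoImplicit false
set_option linter.unusedSectionVars false
set_option linter.style.haveILetI false
set_option maxHeartbeats 1000000

universe u

noncomputable section

namespace Groth.Agent.CartierOne9

variable (p : ℕ) [hp : Fact p.Prime] (A B : Type u) [CommRing A] [CommRing B] [Algebra A B] [CharP B p]

/-- One-forms with `B` acting through `p`-th powers. -/
def FOm (_p : ℕ) (A B : Type u) [CommRing A] [CommRing B] [Algebra A B] : Type u := KaehlerDifferential A B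

instance : AddCommGroup (FOm p A B) := inferInstanceAs (AddCommGroup (KaehlerDifferential A B))

instance : Module B (FOm p A B) := Module.compHom (KaehlerDifferential A B) (frobenius B p)

/-- The identity into `FOm`. -/
def toF : KaehlerDifferential A B →+ FOm p A B := AddMonoidHom.id (KaehlerDifferential A B)

theorem toF_smul (b : B) (x : KaehlerDifferential A B) : b • toF p A B x = toF p A B (b ^ p • x) := rfl

theorem D_pow_p (b : B) : KaehlerDifferential.D A B (b ^ p) = 0 := by
  rw [Derivation.leibniz_pow, ← Nat.cast_smul_eq_nsmul B, CharP.cast_eq_zero B p, zero_smul]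

theorem D_pow_p_mul (b f : B) : KaehlerDifferential.D A B (b ^ p * f) = b ^ p • KaehlerDifferential.D A B f := by
  rw [Derivation.leibniz, D_pow_p, smul_zero, add_zero]

/-- Exact forms. -/
def exactSub : Submodule B (FOm p A B) where
  carrier := Set.range fun f => toF p A B (KaehlerDifferential.D A B f)
  add_mem' := by
    rintro _ _ ⟨f, rfl⟩ ⟨g, rfl⟩
    exact ⟨f + g, by simp⟩
  zero_mem' := ⟨0, by simp⟩
  smul_mem' := by
    rintro b _ ⟨f, rfl⟩
    exact ⟨b ^ p * f, by simp only [toF_smul, D_pow_p_mul]⟩

/-- The receptacle of the inverse Cartier map. -/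
abbrev N : Type u := FOm p A B ⧸ exactSub p A B

instance : Module A (N p A B) := Module.compHom (N p A B) (algebraMap A B)

instance : IsScalarTower A B (N p A B) := IsScalarTower.of_algebraMap_smul fun _ _ => rfl

/-- The class of a form. -/
def mkN : KaehlerDifferential A B →+ N p A B := (exactSub p A B).mkQ.toAddMonoidHom.comp (toF p A B)

theorem mkN_smul (b : B) (x : KaehlerDifferential A B) : b • mkN p A B x = mkN p A B (b ^ p • x) := rfl

theorem mkN_surjective : Function.Surjective (mkN p A B) := fun z =>
  Submodule.mkQ_surjective (exactSub p A B) z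

theorem mkN_eq_iff (x y : KaehlerDifferential A B) :
    mkN p A B x = mkN p A B y ↔ ∃ h, KaehlerDifferential.D A B h = x - y := by
  refine (Submodule.Quotient.eq _).trans ?_
  exact Iff.rfl

theorem mkN_D (h : B) : mkN p A B (KaehlerDifferential.D A B h) = 0 := by
  rw [← map_zero (mkN p A B), mkN_eq_iff]
  exact ⟨h, (sub_zero _).symm⟩

/-- Chain rule. -/
theorem D_aeval (v : Fin 2 → B) (q : MvPolynomial (Fin 2) ℤ) :
    KaehlerDifferential.D A B (MvPolynomial.aeval v q) =
      ∑ i, MvPolynomial.aeval v (MvPolynomial.pderiv i q) • KaehlerDifferential.D A B (v i) := by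
  induction q using MvPolynomial.induction_on with
  | C a => simp
  | add q q' hq hq' => simp only [map_add, hq, hq', add_smul, Finset.sum_add_distrib]
  | mul_X q j hq =>
    rw [map_mul, MvPolynomial.aeval_X, Derivation.leibniz, hq, Finset.smul_sum]
    simp only [MvPolynomial.pderiv_mul, map_add, map_mul, MvPolynomial.aeval_X, add_smul, Finset.sum_add_distrib,
      MvPolynomial.pderiv_X, smul_smul]
    rw [add_comm]
    congr 1
    · exact Finset.sum_congr rfl fun i _ => by rw [mul_comm]
    · rw [Finset.sum_eq_single j (fun i _ hi => by simp [Pi.single_eq_of_ne (Ne.symm hi)]) (by simp)]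
      simp

theorem exists_primitive_add (f g : B) :
    ∃ h, KaehlerDifferential.D A B h = (f + g) ^ (p - 1) • KaehlerDifferential.D A B (f + g) -
      (f ^ (p - 1) • KaehlerDifferential.D A B f + g ^ (p - 1) • KaehlerDifferential.D A B g) := by
  obtain ⟨q, hq⟩ := exists_add_pow_prime_eq hp.out (MvPolynomial.X 0 : MvPolynomial (Fin 2) ℤ) (MvPolynomial.X 1)
  let F : MvPolynomial (Fin 2) ℤ := MvPolynomial.X 0 * MvPolynomial.X 1 * q
  have hF : (p : MvPolynomial (Fin 2) ℤ) * F =
      (MvPolynomial.X 0 + MvPolynomial.X 1) ^ p - MvPolynomial.X 0 ^ p - MvPolynomial.X 1 ^ p := by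
    rw [hq]; simp only [F]; ring
  have hcancel : ∀ a b : MvPolynomial (Fin 2) ℤ, (p : MvPolynomial (Fin 2) ℤ) * a = p * b → a = b := fun a b h =>
    mul_left_cancel₀ (by exact_mod_cast hp.out.ne_zero) h
  have h0 : MvPolynomial.pderiv 0 F =
      (MvPolynomial.X 0 + MvPolynomial.X 1) ^ (p - 1) - MvPolynomial.X 0 ^ (p - 1) := by
    refine hcancel _ _ ?_
    have := congrArg (MvPolynomial.pderiv 0) hF
    rw [MvPolynomial.pderiv_mul, Derivation.map_natCast, zero_mul, zero_add] at this
    rw [this]
    simp [Derivation.leibniz_pow]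
    ring
  have h1 : MvPolynomial.pderiv 1 F =
      (MvPolynomial.X 0 + MvPolynomial.X 1) ^ (p - 1) - MvPolynomial.X 1 ^ (p - 1) := by
    refine hcancel _ _ ?_
    have := congrArg (MvPolynomial.pderiv 1) hF
    rw [MvPolynomial.pderiv_mul, Derivation.map_natCast, zero_mul, zero_add] at this
    rw [this]
    simp [Derivation.leibniz_pow]
    ring
  refine ⟨MvPolynomial.aeval ![f, g] F, ?_⟩
  rw [D_aeval, Fin.sum_univ_two, h0, h1]
  simp only [map_sub, map_pow, map_add, MvPolynomial.aeval_X, Matrix.cons_val_zero, Matrix.cons_val_one, sub_smul, smul_add]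
  abel

/-- `f ↦ f ^ (p - 1) df`. -/
def gammaDer : Derivation A B (N p A B) where
  toFun f := mkN p A B (f ^ (p - 1) • KaehlerDifferential.D A B f)
  map_add' f g := by
    rw [← map_add, mkN_eq_iff]
    exact exists_primitive_add p A B f g
  map_smul' a f := by
    show _ = algebraMap A B a • mkN p A B _
    rw [mkN_smul, smul_smul, Algebra.smul_def, Derivation.leibniz, Derivation.map_algebraMap, smul_zero, add_zero,
      smul_smul, mul_pow]
    refine congrArg (fun b => mkN p A B (b • KaehlerDifferential.D A B f)) ?_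
    rw [mul_right_comm, ← pow_succ, Nat.sub_add_cancel hp.out.one_le]
  map_one_eq_zero' := by simp
  leibniz' f g := by
    show mkN p A B ((f * g) ^ (p - 1) • KaehlerDifferential.D A B (f * g)) =
      f • mkN p A B (g ^ (p - 1) • KaehlerDifferential.D A B g) + g • mkN p A B (f ^ (p - 1) • KaehlerDifferential.D A B f)
    rw [mkN_smul, mkN_smul, ← map_add, Derivation.leibniz, smul_add, smul_smul, smul_smul, smul_smul, smul_smul]
    obtain ⟨k, rfl⟩ : ∃ k, p = k + 1 := ⟨p - 1, (Nat.sub_add_cancel hp.out.one_le).symm⟩
    simp only [Nat.add_sub_cancel]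
    congr 3 <;> ring

/-- The inverse Cartier map. -/
def gamma : KaehlerDifferential A B →ₗ[B] N p A B := (gammaDer p A B).liftKaehlerDifferential

theorem gamma_smul_D (c f : B) :
    gamma p A B (c • KaehlerDifferential.D A B f) =
      mkN p A B (c ^ p • f ^ (p - 1) • KaehlerDifferential.D A B f) := by
  rw [map_smul, gamma, Derivation.liftKaehlerDifferential_comp_D]
  rfl

/-- Naturality. -/
theorem gamma_natural (C : Type u) [CommRing C] [Algebra A C] [Algebra B C] [IsScalarTower A B C] [CharP C p]
    (η x : KaehlerDifferential A B) (h : gamma p A B η = mkN p A B x) :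
    gamma p A C (KaehlerDifferential.map A A B C η) = mkN p A C (KaehlerDifferential.map A A B C x) := by
  suffices H : ∃ y, gamma p A B η = mkN p A B y ∧
      gamma p A C (KaehlerDifferential.map A A B C η) = mkN p A C (KaehlerDifferential.map A A B C y) by
    obtain ⟨y, hy, hy'⟩ := H
    rw [hy', mkN_eq_iff]
    obtain ⟨z, hz⟩ := (mkN_eq_iff p A B y x).1 (hy.symm.trans h)
    exact ⟨algebraMap B C z, by rw [← KaehlerDifferential.map_D A A, hz, map_sub]⟩
  clear h
  have hη : η ∈ Submodule.span B (Set.range (KaehlerDifferential.D A B)) := by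
    rw [KaehlerDifferential.span_range_derivation]; exact Submodule.mem_top
  induction hη using Submodule.span_induction with
  | mem z hz =>
    obtain ⟨f, rfl⟩ := hz
    refine ⟨f ^ (p - 1) • KaehlerDifferential.D A B f, by simpa using gamma_smul_D p A B 1 f, ?_⟩
    rw [KaehlerDifferential.map_D, map_smul, KaehlerDifferential.map_D, ← algebraMap_smul C, map_pow]
    simpa using gamma_smul_D p A C 1 (algebraMap B C f)
  | zero => exact ⟨0, by simp, by simp⟩
  | add y z _ _ hy hz =>
    obtain ⟨y', h1, h2⟩ := hy
    obtain ⟨z', h3, h4⟩ := hz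
    exact ⟨y' + z', by rw [map_add, h1, h3, map_add], by rw [map_add, map_add, h2, h4, map_add, map_add]⟩
  | smul b y _ hy =>
    obtain ⟨y', h1, h2⟩ := hy
    refine ⟨b ^ p • y', by rw [map_smul, h1, mkN_smul], ?_⟩
    rw [map_smul, ← algebraMap_smul C b (KaehlerDifferential.map A A B C y), map_smul, h2, mkN_smul,
      LinearMap.map_smul (KaehlerDifferential.map A A B C) (b ^ p) y',
      ← algebraMap_smul C (b ^ p) (KaehlerDifferential.map A A B C y'), map_pow]

end Groth.Agent.CartierOne9
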