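import Mathlib
import Groth.Agent.CartierOne9.Chart
import Groth.Agent.CartierOne9.Gamma

/-!
# The inverse Cartier map of a smooth algebra is bijective onto closed classes
-/

set_option autoImplicit false
set_option linter.unusedSectionVars false
set_option linter.style.haveILetI false
set_option maxHeartbeats 1000000

universe u

noncomputable section

namespace Groth.Agent.CartierOne9

section Frame

variable (p : ℕ) [hp : Fact p.Prime] [NeZero p] {A : Type u} [CommRing A] [CharP A p] [PerfectRing A p] {r : ℕ}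
  (C : Type u) [CommRing C] [Algebra A C] [CharP C p] [Algebra (MvPolynomial (Fin r) A) C]
  [IsScalarTower A (MvPolynomial (Fin r) A) C] [hE : Algebra.Etale (MvPolynomial (Fin r) A) C]
include hE

/-- The inverse Cartier map in the frame. -/
theorem gamma_frame (z : KaehlerDifferential A C) :
    gamma p A C z = mkN p A C (∑ i, ((tBasis (A := A) (r := r) C).repr z i ^ p * tc (A := A) C i ^ (p - 1)) •
      tBasis (A := A) (r := r) C i) := by
  conv_lhs => rw [← (tBasis (A := A) (r := r) C).sum_repr z]
  rw [map_sum, map_sum]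
  refine Finset.sum_congr rfl fun i _ => ?_
  rw [tBasis_apply, gamma_smul_D, smul_smul]

theorem gamma_injective_chart (z : KaehlerDifferential A C) (hz : gamma p A C z = 0) : z = 0 := by
  rw [gamma_frame (r := r) p C z, ← map_zero (mkN p A C), mkN_eq_iff] at hz
  obtain ⟨h, hh⟩ := hz
  rw [sub_zero] at hh
  refine (tBasis (A := A) (r := r) C).repr.injective (Finsupp.ext fun i => ?_)
  rw [map_zero, Finsupp.zero_apply]
  refine chart_inj p (A := A) (r := r) C (fun i => (tBasis (A := A) (r := r) C).repr z i) h (fun j => ?_) i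
  show (tBasis (A := A) (r := r) C).repr (KaehlerDifferential.D A C h) j = _
  rw [hh, Module.Basis.repr_sum_self]

theorem gamma_surj_chart (w : KaehlerDifferential A C)
    (hw : ∀ φ ψ : Derivation A C C, (∀ x, φ (ψ x) = ψ (φ x)) →
      φ (ψ.liftKaehlerDifferential w) = ψ (φ.liftKaehlerDifferential w)) :
    ∃ z, gamma p A C z = mkN p A C w := by
  have hl : ∀ (i : Fin r) (x : KaehlerDifferential A C),
      (pd (A := A) C i).liftKaehlerDifferential x = (tBasis (A := A) (r := r) C).repr x i := fun i x => by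
    have : (pd (A := A) C i).liftKaehlerDifferential = (tBasis (A := A) (r := r) C).coord i :=
      Derivation.liftKaehlerDifferential_unique _ _ (Derivation.ext fun y => by
        show (pd (A := A) C i).liftKaehlerDifferential (KaehlerDifferential.D A C y) = _
        rw [Derivation.liftKaehlerDifferential_comp_D]
        rfl)
    rw [this]
    rfl
  obtain ⟨h, g, hg⟩ := chart_surj p (A := A) (r := r) C (fun i => (tBasis (A := A) (r := r) C).repr w i) fun i j => by
    rw [← hl, ← hl]
    exact hw _ _ (pd_comm C i j)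
  refine ⟨∑ i, g i • tBasis (A := A) (r := r) C i, ?_⟩
  rw [gamma_frame (r := r) p C, eq_comm, mkN_eq_iff]
  refine ⟨h, (tBasis (A := A) (r := r) C).repr.injective (Finsupp.ext fun i => ?_)⟩
  rw [map_sub, Finsupp.sub_apply, hg i, Module.Basis.repr_sum_self, Module.Basis.repr_sum_self]
  exact (add_sub_cancel_right _ _).symm

end Frame

variable (p : ℕ) [hp : Fact p.Prime] (A B : Type u) [CommRing A] [CharP A p] [PerfectRing A p] [CommRing B]
  [Algebra A B] [CharP B p] [Algebra.Smooth A B]

/-- Charts around a prime. -/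
theorem exists_chart (Q : Ideal B) [Q.IsPrime] :
    ∃ g ∉ Q, CharP (Localization.Away g) p ∧
      ∃ (r : ℕ) (φ : MvPolynomial (Fin r) A →ₐ[A] Localization.Away g), φ.Etale := by
  obtain ⟨g, hg, hstd⟩ := Algebra.IsSmoothAt.exists_notMem_isStandardSmooth A Q
  haveI : Nontrivial (Localization.Away g) := by
    rw [← not_subsingleton_iff_nontrivial,
      IsLocalization.subsingleton_iff (M := Submonoid.powers g) (S := Localization.Away g)]
    rintro ⟨n, hn⟩
    exact hg (Ideal.IsPrime.mem_of_pow_mem ‹_› n (by rw [show g ^ n = 0 from hn]; exact zero_mem _))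
  have hc : CharP (Localization.Away g) p := ringChar.of_eq (CharP.ringChar_of_prime_eq_zero Fact.out
    (by rw [← map_natCast (algebraMap B (Localization.Away g)), CharP.cast_eq_zero B p, map_zero]))
  obtain ⟨ι, σ, _, _, ⟨P⟩⟩ := hstd
  haveI : Algebra.IsStandardSmoothOfRelativeDimension P.dimension A (Localization.Away g) :=
    ⟨ι, σ, ‹_›, ‹_›, P, rfl⟩
  obtain ⟨φ, hφ⟩ := Algebra.IsStandardSmoothOfRelativeDimension.exists_etale_mvPolynomial (R := A)
    (S := Localization.Away g) (n := P.dimension)
  exact ⟨g, hg, hc, P.dimension, φ, hφ⟩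

theorem gamma_injective : Function.Injective (gamma p A B) := by
  haveI : NeZero p := ⟨hp.out.ne_zero⟩
  rw [injective_iff_map_eq_zero]
  intro η hη
  let J : Ideal B := LinearMap.ker (LinearMap.toSpanSingleton B (KaehlerDifferential A B) η)
  suffices hJ : J = ⊤ by
    have h1 : (1 : B) ∈ J := hJ ▸ Submodule.mem_top
    simpa [J] using h1
  by_contra hne
  obtain ⟨Q, hQ, hle⟩ := Ideal.exists_le_maximal J hne
  haveI := hQ.isPrime
  obtain ⟨g, hg, hc, r, φ, hφ⟩ := exists_chart p A B Q
  letI := φ.toRingHom.toAlgebra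
  haveI : IsScalarTower A (MvPolynomial (Fin r) A) (Localization.Away g) :=
    IsScalarTower.of_algebraMap_eq fun a => (φ.commutes a).symm
  haveI : Algebra.Etale (MvPolynomial (Fin r) A) (Localization.Away g) := hφ
  have h1 := gamma_natural p A B (Localization.Away g) η 0 (by rw [hη, map_zero])
  rw [map_zero, map_zero] at h1
  obtain ⟨⟨_, n, rfl⟩, hn⟩ := (IsLocalizedModule.eq_zero_iff (Submonoid.powers g)
    (KaehlerDifferential.map A A B (Localization.Away g))).1
    (gamma_injective_chart (r := r) p (Localization.Away g) _ h1)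
  have h2 : g ^ n ∈ J := by simpa [J, Submonoid.smul_def] using hn
  exact hg (hQ.isPrime.mem_of_pow_mem n (hle h2))

theorem gamma_surj (w : KaehlerDifferential A B)
    (hw : ∀ (C : Type u) [CommRing C] [Algebra A C] [Algebra B C] [IsScalarTower A B C] (φ ψ : Derivation A C C),
      (∀ x, φ (ψ x) = ψ (φ x)) →
      φ (ψ.liftKaehlerDifferential (KaehlerDifferential.map A A B C w)) =
        ψ (φ.liftKaehlerDifferential (KaehlerDifferential.map A A B C w))) :
    ∃ η, gamma p A B η = mkN p A B w := by
  haveI : NeZero p := ⟨hp.out.ne_zero⟩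
  let J : Ideal B := (LinearMap.range (gamma p A B)).comap (LinearMap.toSpanSingleton B (N p A B) (mkN p A B w))
  suffices hJ : J = ⊤ by
    have h1 : (1 : B) ∈ J := hJ ▸ Submodule.mem_top
    obtain ⟨η, hη⟩ := h1
    exact ⟨η, hη.trans (one_smul B _)⟩
  by_contra hne
  obtain ⟨Q, hQ, hle⟩ := Ideal.exists_le_maximal J hne
  haveI := hQ.isPrime
  obtain ⟨g, hg, hc, r, φ, hφ⟩ := exists_chart p A B Q
  letI := φ.toRingHom.toAlgebra
  haveI : IsScalarTower A (MvPolynomial (Fin r) A) (Localization.Away g) :=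
    IsScalarTower.of_algebraMap_eq fun a => (φ.commutes a).symm
  haveI : Algebra.Etale (MvPolynomial (Fin r) A) (Localization.Away g) := hφ
  set μ := KaehlerDifferential.map A A B (Localization.Away g) with hμ
  obtain ⟨z, hz⟩ := gamma_surj_chart (r := r) p (Localization.Away g) (μ w) fun φ ψ h => hw _ φ ψ h
  obtain ⟨⟨η, ⟨_, n, rfl⟩⟩, hη⟩ := IsLocalizedModule.surj (Submonoid.powers g) μ z
  have hη' : g ^ n • z = μ η := hη
  obtain ⟨x, hx⟩ := mkN_surjective p A B (gamma p A B η)
  have h1 := gamma_natural p A B (Localization.Away g) η x hx.symm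
  rw [← hμ, ← hη', ← algebraMap_smul (Localization.Away g) (g ^ n) z, map_smul, hz, mkN_smul, ← map_pow,
    algebraMap_smul, ← LinearMap.map_smul, mkN_eq_iff] at h1
  obtain ⟨h, hh⟩ := h1
  obtain ⟨m, a, ha⟩ := IsLocalization.Away.surj g h
  -- clear the denominator by a `p`-th power
  obtain ⟨m', hm'⟩ : ∃ m', g ^ (p * m') • μ ((g ^ n) ^ p • w - x) =
      μ (KaehlerDifferential.D A B (g ^ ((p - 1) * m) * a)) := by
    refine ⟨m, ?_⟩
    rw [KaehlerDifferential.map_D, map_sub, ← hh,
      ← algebraMap_smul (Localization.Away g), map_mul, ← ha, pow_mul', map_pow, ← D_pow_p_mul]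
    congr 1
    have hmm : (p - 1) * m + m = m * p := by
      obtain ⟨k, rfl⟩ : ∃ k, p = k + 1 := ⟨p - 1, (Nat.sub_add_cancel hp.out.one_le).symm⟩
      simp only [Nat.add_sub_cancel]
      ring
    rw [map_pow, map_pow, mul_comm h, ← mul_assoc, ← pow_add, hmm, pow_mul]
  rw [← LinearMap.map_smul, ← sub_eq_zero, ← map_sub] at hm'
  obtain ⟨⟨_, k, rfl⟩, hk⟩ := (IsLocalizedModule.eq_zero_iff (Submonoid.powers g) μ).1 hm'
  have hk2 : (g ^ k) • (g ^ (p * m') • ((g ^ n) ^ p • w - x) -
      KaehlerDifferential.D A B (g ^ ((p - 1) * m) * a)) = 0 := hk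
  have hk3 := congrArg (fun y => mkN p A B ((g ^ ((p - 1) * k)) • y)) hk2
  simp only [smul_zero, map_zero, smul_smul, ← pow_add] at hk3
  rw [show (p - 1) * k + k = k * p by
      obtain ⟨k', rfl⟩ : ∃ k', p = k' + 1 := ⟨p - 1, (Nat.sub_add_cancel hp.out.one_le).symm⟩
      simp only [Nat.add_sub_cancel]
      ring,
    pow_mul, ← mkN_smul, map_sub, mkN_D, sub_zero, mul_comm p m', pow_mul, ← mkN_smul, map_sub, ← mkN_smul,
    hx, smul_sub, smul_sub, smul_smul, smul_smul, smul_smul, sub_eq_zero, ← pow_add, ← pow_add] at hk3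
  have h3 : g ^ (k + (m' + n)) ∈ J := by
    refine ⟨g ^ (k + m') • η, ?_⟩
    rw [map_smul, ← add_assoc]
    exact hk3.symm
  exact hg (hQ.isPrime.mem_of_pow_mem _ (hle h3))

end Groth.Agent.CartierOne9
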